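import Mathlib

namespace Groth.Agent.H5.LocBasis
universe u

variable {A : Type u} [CommRing A] {M : Type u} [AddCommGroup M] [Module A M] {n : ℕ}

local notation "ψ[" s "]" => Fintype.linearCombination A s

section L1
variable (S : Submonoid A) (s : Fin n → M)

/-- (a) every element is, up to a denominator, a combination of the `s j` -/
theorem exists_smul_mem_range
    (hsp : Submodule.span (Localization S)
      (Set.range fun j => LocalizedModule.mkLinearMap S M (s j)) = ⊤) (x : M) :
    ∃ c ∈ S, c • x ∈ LinearMap.range (Fintype.linearCombination A s) := by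
  set f := LocalizedModule.mkLinearMap S M with hf
  have hx : f x ∈ Submodule.span (Localization S) (Set.range fun j => f (s j)) := by
    rw [hsp]; trivial
  rw [Submodule.mem_span_range_iff_exists_fun] at hx
  obtain ⟨α, hα⟩ := hx
  obtain ⟨d, hd⟩ := IsLocalization.exist_integer_multiples_of_finite S α
  choose a ha using hd
  have h1 : f ((d : A) • x) = f (Fintype.linearCombination A s a) := by
    rw [map_smul, ← hα, Finset.smul_sum, Fintype.linearCombination_apply, map_sum]
    refine Finset.sum_congr rfl fun j _ => ?_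
    rw [map_smul, ← algebraMap_smul (Localization S) (a j) (f (s j)), ha j, smul_assoc]
  obtain ⟨u, hu⟩ := IsLocalizedModule.exists_of_eq (S := S) (f := f) h1
  refine ⟨(u : A) * (d : A), (u * d).2, ⟨(u : A) • a, ?_⟩⟩
  rw [map_smul, mul_smul]
  exact hu.symm

theorem exists_smul_forall_mem_range [Module.Finite A M]
    (hsp : Submodule.span (Localization S)
      (Set.range fun j => LocalizedModule.mkLinearMap S M (s j)) = ⊤) :
    ∃ c ∈ S, ∀ x : M, c • x ∈ LinearMap.range (Fintype.linearCombination A s) := by
  classical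
  obtain ⟨G, hG⟩ := (Module.Finite.fg_top : (⊤ : Submodule A M).FG)
  choose c hcS hc using exists_smul_mem_range S s hsp
  refine ⟨∏ x ∈ G, c x, Submonoid.prod_mem _ fun x _ => hcS x, ?_⟩
  have hsub : (⊤ : Submodule A M) ≤ (LinearMap.range (Fintype.linearCombination A s)).comap
      ((∏ x ∈ G, c x) • (LinearMap.id : M →ₗ[A] M)) := by
    rw [← hG, Submodule.span_le]
    intro x hx
    simp only [SetLike.mem_coe, Submodule.mem_comap, LinearMap.smul_apply, LinearMap.id_apply]
    rw [← Finset.prod_erase_mul G c hx, mul_smul]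
    exact Submodule.smul_mem _ _ (hc x)
  intro x
  exact hsub (Submodule.mem_top : x ∈ ⊤)

/-- kernel elements are killed by a denominator -/
theorem exists_smul_eq_zero_of_ker
    (hli : LinearIndependent (Localization S)
      (fun j => LocalizedModule.mkLinearMap S M (s j)))
    (k : Fin n → A) (hk : Fintype.linearCombination A s k = 0) :
    ∃ u ∈ S, u • k = 0 := by
  classical
  set f := LocalizedModule.mkLinearMap S M with hf
  rw [Fintype.linearIndependent_iff] at hli
  have h1 : ∑ j, (algebraMap A (Localization S) (k j)) • f (s j) = 0 := by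
    have := congrArg f hk
    rw [Fintype.linearCombination_apply, map_sum, map_zero] at this
    rw [← this]
    refine Finset.sum_congr rfl fun j _ => ?_
    rw [map_smul, algebraMap_smul]
  have h2 := hli _ h1
  have h3 : ∀ j, ∃ u : S, (u : A) * k j = 0 := by
    intro j
    have := h2 j
    rw [← (algebraMap A (Localization S)).map_zero, IsLocalization.eq_iff_exists S] at this
    obtain ⟨u, hu⟩ := this
    exact ⟨u, by simpa using hu⟩
  choose u hu using h3
  refine ⟨∏ j, (u j : A), Submonoid.prod_mem _ fun j _ => (u j).2, ?_⟩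
  funext j
  simp only [Pi.smul_apply, smul_eq_mul, Pi.zero_apply]
  rw [← Finset.prod_erase_mul Finset.univ (fun j => (u j : A)) (Finset.mem_univ j), mul_assoc,
    hu j, mul_zero]

/-- L1: a localised basis has an inverse up to a denominator -/
theorem exists_inverse_up_to [Module.Finite A M] [Module.Projective A M]
    (hli : LinearIndependent (Localization S)
      (fun j => LocalizedModule.mkLinearMap S M (s j)))
    (hsp : Submodule.span (Localization S)
      (Set.range fun j => LocalizedModule.mkLinearMap S M (s j)) = ⊤) :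
    ∃ c ∈ S, ∃ χ : M →ₗ[A] (Fin n → A),
      (∀ a, χ (Fintype.linearCombination A s a) = c • a) ∧
      (∀ x, Fintype.linearCombination A s (χ x) = c • x) := by
  classical
  obtain ⟨c₀, hc₀S, hc₀⟩ := exists_smul_forall_mem_range S s hsp
  set ψ := Fintype.linearCombination A s with hψ
  -- lift `c₀ • id` through `ψ`
  let θ : M →ₗ[A] LinearMap.range ψ :=
    LinearMap.codRestrict (LinearMap.range ψ) (c₀ • (LinearMap.id : M →ₗ[A] M)) (fun x => hc₀ x)
  obtain ⟨χ, hχ⟩ := Module.projective_lifting_property ψ.rangeRestrict θ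
    (LinearMap.surjective_rangeRestrict ψ)
  have hχ' : ∀ x, ψ (χ x) = c₀ • x := by
    intro x
    have := congrArg Subtype.val (LinearMap.congr_fun hχ x)
    simpa [θ] using this
  -- kernel elements
  have hk : ∀ j : Fin n, ∃ u ∈ S, u • (χ (ψ (Pi.single j 1)) - c₀ • (Pi.single j 1 : Fin n → A)) = 0 := by
    intro j
    apply exists_smul_eq_zero_of_ker S s hli
    rw [map_sub, hχ', map_smul, sub_self]
  choose u huS hu using hk
  set u' := ∏ j, u j with hu'
  have hu'S : u' ∈ S := Submonoid.prod_mem _ fun j _ => huS j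
  have hu'k : ∀ j, u' • χ (ψ (Pi.single j 1)) = (u' * c₀) • (Pi.single j 1 : Fin n → A) := by
    intro j
    have h1 : u' • (χ (ψ (Pi.single j 1)) - c₀ • (Pi.single j 1 : Fin n → A)) = 0 := by
      rw [hu', ← Finset.prod_erase_mul Finset.univ u (Finset.mem_univ j), mul_smul, hu j,
        smul_zero]
    rw [smul_sub, sub_eq_zero] at h1
    rw [h1, mul_smul]
  refine ⟨u' * c₀, S.mul_mem hu'S hc₀S, u' • χ, ?_, ?_⟩
  · have : (u' • χ) ∘ₗ ψ = (u' * c₀) • LinearMap.id := by
      apply LinearMap.pi_ext'
      intro j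
      ext i
      simp only [LinearMap.comp_apply, LinearMap.single_apply, LinearMap.smul_apply,
        LinearMap.id_apply]
      exact congrFun (hu'k j) i
    intro a
    exact LinearMap.congr_fun this a
  · intro x
    rw [LinearMap.smul_apply, map_smul, hχ', mul_smul]

end L1


section L2
variable (S : Submonoid A) (s : Fin n → M) (c : A) (hc : c ∈ S) (χ : M →ₗ[A] (Fin n → A))
  (h1 : ∀ a, χ (Fintype.linearCombination A s a) = c • a)
  (h2 : ∀ x, Fintype.linearCombination A s (χ x) = c • x)

include hc h2 in
theorem span_eq_top_of_inverse :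
    Submodule.span (Localization S)
      (Set.range fun j => LocalizedModule.mkLinearMap S M (s j)) = ⊤ := by
  set f := LocalizedModule.mkLinearMap S M with hf
  rw [eq_top_iff]
  intro z _
  obtain ⟨⟨x, t⟩, hxt⟩ := IsLocalizedModule.surj S f z
  -- `t • z = f x`
  have hu : IsUnit (algebraMap A (Localization S) ((t : A) * c)) :=
    IsLocalization.map_units (Localization S) (t * ⟨c, hc⟩ : S)
  have h3 : (algebraMap A (Localization S) ((t : A) * c)) • z =
      ∑ j, (algebraMap A (Localization S) (χ x j)) • f (s j) := by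
    have : (algebraMap A (Localization S) ((t : A) * c)) • z = f (c • x) := by
      rw [algebraMap_smul, mul_comm, mul_smul, map_smul]
      congr 1
    rw [this, ← h2 x, Fintype.linearCombination_apply, map_sum]
    refine Finset.sum_congr rfl fun j _ => ?_
    rw [map_smul, algebraMap_smul]
  have h4 : z = (hu.unit⁻¹ : (Localization S)ˣ).1 •
      ∑ j, (algebraMap A (Localization S) (χ x j)) • f (s j) := by
    rw [← h3, smul_smul]
    have : (hu.unit⁻¹ : (Localization S)ˣ).1 * algebraMap A (Localization S) ((t : A) * c) = 1 :=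
      hu.unit.inv_mul
    rw [this, one_smul]
  rw [h4]
  refine Submodule.smul_mem _ _ (Submodule.sum_mem _ fun j _ => ?_)
  exact Submodule.smul_mem _ _ (Submodule.subset_span ⟨j, rfl⟩)

include hc h1 in
theorem linearIndependent_of_inverse :
    LinearIndependent (Localization S)
      (fun j => LocalizedModule.mkLinearMap S M (s j)) := by
  classical
  set f := LocalizedModule.mkLinearMap S M with hf
  rw [Fintype.linearIndependent_iff]
  intro α hα j
  obtain ⟨d, hd⟩ := IsLocalization.exist_integer_multiples_of_finite S α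
  choose a ha using hd
  have h3 : f (Fintype.linearCombination A s a) = 0 := by
    rw [Fintype.linearCombination_apply, map_sum]
    have : ∑ j, f (a j • s j) = (d : A) • ∑ j, α j • f (s j) := by
      rw [Finset.smul_sum]
      refine Finset.sum_congr rfl fun j _ => ?_
      rw [map_smul, ← algebraMap_smul (Localization S) (a j) (f (s j)), ha j, smul_assoc]
    rw [this, hα, smul_zero]
  obtain ⟨u, hu⟩ := IsLocalizedModule.exists_of_eq (S := S) (f := f)
    (h3.trans (map_zero f).symm)
  rw [smul_zero] at hu
  have h4 : c • ((u : A) • a) = 0 := by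
    rw [← h1, map_smul]
    have : (u : A) • Fintype.linearCombination A s a = 0 := hu
    rw [this, map_zero]
  have h5 : (c * (u : A)) * a j = 0 := by
    have := congrFun h4 j
    simpa [mul_assoc] using this
  have h6 : algebraMap A (Localization S) (a j) = 0 := by
    rw [← (algebraMap A (Localization S)).map_zero, IsLocalization.eq_iff_exists S]
    exact ⟨⟨c, hc⟩ * u, by simpa using h5⟩
  rw [ha j] at h6
  have hdu : IsUnit (algebraMap A (Localization S) (d : A)) :=
    IsLocalization.map_units (Localization S) d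
  rw [Algebra.smul_def] at h6
  exact (hdu.mul_right_eq_zero).mp h6

end L2


section L3

theorem exists_global_of_basis (S : Submonoid A)
    (b : Module.Basis (Fin n) (Localization S) (LocalizedModule S M)) :
    ∃ y : Fin n → M,
      LinearIndependent (Localization S) (fun j => LocalizedModule.mkLinearMap S M (y j)) ∧
      Submodule.span (Localization S)
        (Set.range fun j => LocalizedModule.mkLinearMap S M (y j)) = ⊤ := by
  set f := LocalizedModule.mkLinearMap S M with hf
  have h := fun j => IsLocalizedModule.surj S f (b j)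
  choose xt hxt using h
  have hw : ∀ j, IsUnit (algebraMap A (Localization S) ((xt j).2 : A)) :=
    fun j => IsLocalization.map_units (Localization S) (xt j).2
  let b' := b.isUnitSMul hw
  have hb' : (fun j => f ((xt j).1)) = ⇑b' := by
    funext j
    rw [Module.Basis.isUnitSMul_apply, algebraMap_smul, ← hxt j]
    rfl
  refine ⟨fun j => (xt j).1, ?_, ?_⟩
  · rw [hb']; exact b'.linearIndependent
  · rw [hb']; exact b'.span_eq

end L3

section L4

open IsLocalRing in
theorem basis_of_combination (p : PrimeSpectrum A) {ι : Type*} (P' : Finset ι) (i₀ : ι)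
    (hi₀ : i₀ ∈ P') (y : ι → Fin n → M) (a : ι → A)
    (hli : LinearIndependent (Localization.AtPrime p.asIdeal)
      (fun j => LocalizedModule.mkLinearMap p.asIdeal.primeCompl M (y i₀ j)))
    (hsp : Submodule.span (Localization.AtPrime p.asIdeal)
      (Set.range fun j => LocalizedModule.mkLinearMap p.asIdeal.primeCompl M (y i₀ j)) = ⊤)
    (ha : a i₀ ∉ p.asIdeal) (ha' : ∀ i ∈ P', i ≠ i₀ → a i ∈ p.asIdeal) :
    LinearIndependent (Localization.AtPrime p.asIdeal)
      (fun j => LocalizedModule.mkLinearMap p.asIdeal.primeCompl M (∑ i ∈ P', a i • y i j)) ∧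
    Submodule.span (Localization.AtPrime p.asIdeal)
      (Set.range fun j => LocalizedModule.mkLinearMap p.asIdeal.primeCompl M
        (∑ i ∈ P', a i • y i j)) = ⊤ := by
  classical
  set Ap := Localization.AtPrime p.asIdeal with hAp
  set f := LocalizedModule.mkLinearMap p.asIdeal.primeCompl M with hf
  let b : Module.Basis (Fin n) Ap (LocalizedModule p.asIdeal.primeCompl M) :=
    Module.Basis.mk hli hsp.ge
  have hb : ∀ j, b j = f (y i₀ j) := fun j => Module.Basis.mk_apply hli hsp.ge j
  set v : Fin n → LocalizedModule p.asIdeal.primeCompl M :=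
    fun j => f (∑ i ∈ P', a i • y i j) with hv
  have hres0 : ∀ i ∈ P', i ≠ i₀ → residue Ap (algebraMap A Ap (a i)) = 0 := by
    intro i hi hne
    rw [residue_eq_zero_iff]
    exact (IsLocalization.AtPrime.to_map_mem_maximal_iff Ap p.asIdeal (a i)).mpr (ha' i hi hne)
  have hres1 : residue Ap (algebraMap A Ap (a i₀)) ≠ 0 := by
    rw [Ne, residue_eq_zero_iff]
    intro h
    exact ha ((IsLocalization.AtPrime.to_map_mem_maximal_iff Ap p.asIdeal (a i₀)).mp h)
  have hmat : (residue Ap).mapMatrix (b.toMatrix v) =
      (residue Ap (algebraMap A Ap (a i₀))) • (1 : Matrix (Fin n) (Fin n) (ResidueField Ap)) := by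
    ext l j
    simp only [RingHom.mapMatrix_apply, Matrix.map_apply, Module.Basis.toMatrix_apply,
      Matrix.smul_apply, Matrix.one_apply, smul_eq_mul]
    have h1 : b.repr (v j) l = ∑ i ∈ P', algebraMap A Ap (a i) * b.repr (f (y i j)) l := by
      rw [hv]
      simp only [map_sum, map_smul, Finsupp.coe_finsetSum, Finset.sum_apply]
      refine Finset.sum_congr rfl fun i _ => ?_
      rw [← algebraMap_smul Ap (a i) (f (y i j)), map_smul, Finsupp.smul_apply, smul_eq_mul]
    rw [h1, map_sum, Finset.sum_eq_single i₀]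
    · rw [map_mul, ← hb j, Module.Basis.repr_self, Finsupp.single_apply]
      split_ifs with h h' h'
      · rfl
      · exact absurd h.symm h'
      · exact absurd h'.symm h
      · rfl
    · intro i hi hne
      rw [map_mul, hres0 i hi hne, zero_mul]
    · intro h; exact absurd hi₀ h
  have hdet : IsUnit (b.det v) := by
    rw [← notMem_maximalIdeal, ← residue_eq_zero_iff, Module.Basis.det_apply,
      RingHom.map_det, hmat, Matrix.det_smul, Matrix.det_one, mul_one]
    exact pow_ne_zero _ hres1
  exact (b.is_basis_iff_det).mpr hdet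

end L4


section Main

/-- a local basis at `p` from a basis over some `A_g`, `g ∉ p` -/
theorem exists_local_basis [Module.Finite A M] [Module.Projective A M] (p : PrimeSpectrum A)
    (g : A) (hg : g ∉ p.asIdeal)
    (b : Module.Basis (Fin n) (Localization.Away g) (LocalizedModule (Submonoid.powers g) M)) :
    ∃ y : Fin n → M,
      LinearIndependent (Localization.AtPrime p.asIdeal)
        (fun j => LocalizedModule.mkLinearMap p.asIdeal.primeCompl M (y j)) ∧
      Submodule.span (Localization.AtPrime p.asIdeal)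
        (Set.range fun j => LocalizedModule.mkLinearMap p.asIdeal.primeCompl M (y j)) = ⊤ := by
  obtain ⟨y, hli, hsp⟩ := exists_global_of_basis (Submonoid.powers g) b
  obtain ⟨c, hcS, χ, h1, h2⟩ := exists_inverse_up_to (Submonoid.powers g) y hli hsp
  have hc : c ∈ p.asIdeal.primeCompl := by
    obtain ⟨k, rfl⟩ := hcS
    exact fun h => hg (p.isPrime.mem_of_pow_mem k h)
  exact ⟨y, linearIndependent_of_inverse p.asIdeal.primeCompl y c hc χ h1,
    span_eq_top_of_inverse p.asIdeal.primeCompl y c hc χ h2⟩

theorem main (A : Type u) [CommRing A] (M : Type u) [AddCommGroup M] [Module A M]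
    [Module.Finite A M] [Module.Projective A M] (n : ℕ) (P : Finset (PrimeSpectrum A))
    (hP : ∀ p ∈ P, ∃ g : A, g ∉ p.asIdeal ∧
      Nonempty (Module.Basis (Fin n) (Localization.Away g)
        (LocalizedModule (Submonoid.powers g) M))) :
    ∃ (s : Fin n → M) (U : Set (PrimeSpectrum A)), IsOpen U ∧ (∀ p ∈ P, p ∈ U) ∧
      ∀ q ∈ U,
        LinearIndependent (Localization.AtPrime q.asIdeal)
            (fun j => LocalizedModule.mkLinearMap q.asIdeal.primeCompl M (s j)) ∧
          Submodule.span (Localization.AtPrime q.asIdeal)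
            (Set.range fun j => LocalizedModule.mkLinearMap q.asIdeal.primeCompl M (s j)) = ⊤ := by
  classical
  -- local bases
  have hloc : ∀ p : PrimeSpectrum A, ∃ y : Fin n → M, p ∈ P →
      (LinearIndependent (Localization.AtPrime p.asIdeal)
        (fun j => LocalizedModule.mkLinearMap p.asIdeal.primeCompl M (y j)) ∧
      Submodule.span (Localization.AtPrime p.asIdeal)
        (Set.range fun j => LocalizedModule.mkLinearMap p.asIdeal.primeCompl M (y j)) = ⊤) := by
    intro p
    by_cases hp : p ∈ P
    · obtain ⟨g, hg, ⟨b⟩⟩ := hP p hp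
      obtain ⟨y, hy⟩ := exists_local_basis p g hg b
      exact ⟨y, fun _ => hy⟩
    · exact ⟨fun _ => 0, fun h => absurd h hp⟩
  choose y hy using hloc
  -- maximal elements
  set P' := P.filter (fun p => Maximal (· ∈ P) p) with hP'
  have hP'P : ∀ p ∈ P', p ∈ P := fun p hp => (Finset.mem_filter.mp hp).1
  have hmax : ∀ p ∈ P, ∃ p' ∈ P', p ≤ p' := by
    intro p hp
    obtain ⟨b, hpb, hb⟩ := P.exists_le_maximal hp
    exact ⟨b, Finset.mem_filter.mpr ⟨hb.1, hb⟩, hpb⟩
  -- separating elements
  have hx : ∀ p p' : PrimeSpectrum A, ∃ x : A, p ∈ P' → p' ∈ P' → p' ≠ p →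
      (x ∈ p'.asIdeal ∧ x ∉ p.asIdeal) := by
    intro p p'
    by_cases h : p ∈ P' ∧ p' ∈ P' ∧ p' ≠ p
    · obtain ⟨hp, hp', hne⟩ := h
      have hnle : ¬ p'.asIdeal ≤ p.asIdeal := by
        intro hle
        have h1 : p' ≤ p := hle
        have h2 := (Finset.mem_filter.mp hp').2.2 (hP'P p hp) h1
        exact hne (le_antisymm h1 h2)
      obtain ⟨x, hx1, hx2⟩ := SetLike.not_le_iff_exists.mp hnle
      exact ⟨x, fun _ _ _ => ⟨hx1, hx2⟩⟩
    · exact ⟨0, fun h1 h2 h3 => absurd ⟨h1, h2, h3⟩ h⟩
  choose x hx using hx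
  set a : PrimeSpectrum A → A := fun p => ∏ p' ∈ P'.erase p, x p p' with ha
  have ha1 : ∀ p ∈ P', a p ∉ p.asIdeal := by
    intro p hp hmem
    rw [ha, Ideal.IsPrime.prod_mem_iff] at hmem
    obtain ⟨p', hp', hmem⟩ := hmem
    have hp'' := Finset.mem_erase.mp hp'
    exact (hx p p' hp hp''.2 hp''.1).2 hmem
  have ha2 : ∀ p ∈ P', ∀ i ∈ P', i ≠ p → a i ∈ p.asIdeal := by
    intro p hp i hi hne
    rw [ha]
    exact Ideal.prod_mem _ (Finset.mem_erase.mpr ⟨hne.symm, hp⟩) (hx i p hi hp hne.symm).1
  -- the sections
  set s : Fin n → M := fun j => ∑ i ∈ P', a i • y i j with hs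
  have hsb : ∀ p ∈ P', LinearIndependent (Localization.AtPrime p.asIdeal)
        (fun j => LocalizedModule.mkLinearMap p.asIdeal.primeCompl M (s j)) ∧
      Submodule.span (Localization.AtPrime p.asIdeal)
        (Set.range fun j => LocalizedModule.mkLinearMap p.asIdeal.primeCompl M (s j)) = ⊤ := by
    intro p hp
    obtain ⟨hli, hsp⟩ := hy p (hP'P p hp)
    exact basis_of_combination p P' p hp y a hli hsp (ha1 p hp) (ha2 p hp)
  -- inverses up to denominators
  have hinv : ∀ p : PrimeSpectrum A, ∃ (c : A) (χ : M →ₗ[A] (Fin n → A)), p ∈ P' →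
      (c ∉ p.asIdeal ∧ (∀ a, χ (Fintype.linearCombination A s a) = c • a) ∧
      (∀ x, Fintype.linearCombination A s (χ x) = c • x)) := by
    intro p
    by_cases hp : p ∈ P'
    · obtain ⟨hli, hsp⟩ := hsb p hp
      obtain ⟨c, hcS, χ, h1, h2⟩ := exists_inverse_up_to p.asIdeal.primeCompl s hli hsp
      exact ⟨c, χ, fun _ => ⟨hcS, h1, h2⟩⟩
    · exact ⟨0, 0, fun h => absurd h hp⟩
  choose c χ hcχ using hinv
  refine ⟨s, ⋃ p ∈ P', (PrimeSpectrum.basicOpen (c p) : Set (PrimeSpectrum A)), ?_, ?_, ?_⟩
  · exact isOpen_biUnion fun p _ => (PrimeSpectrum.basicOpen (c p)).isOpen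
  · intro p₀ hp₀
    obtain ⟨p, hp, hle⟩ := hmax p₀ hp₀
    refine Set.mem_biUnion hp ?_
    intro hmem
    exact (hcχ p hp).1 (hle hmem)
  · intro q hq
    obtain ⟨p, hp, hqp⟩ := Set.mem_iUnion₂.mp hq
    obtain ⟨-, h1, h2⟩ := hcχ p hp
    have hc : c p ∈ q.asIdeal.primeCompl := hqp
    exact ⟨linearIndependent_of_inverse q.asIdeal.primeCompl s (c p) hc (χ p) h1,
      span_eq_top_of_inverse q.asIdeal.primeCompl s (c p) hc (χ p) h2⟩

end Main

end Groth.Agent.H5.LocBasis
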